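import Groth.Agent.DevEtale.Loci
import Mathlib.RingTheory.Finiteness.ModuleFinitePresentation
import Mathlib.RingTheory.Flat.FaithfullyFlat.Descent
import Mathlib.RingTheory.Finiteness.Descent
import Mathlib.RingTheory.RingHom.FinitePresentation
import Mathlib.AlgebraicGeometry.Morphisms.Smooth

/-! Finite presentation along an elementary dévissage. -/

universe u

set_option autoImplicit false
set_option backward.isDefEq.respectTransparency false
set_option backward.isDefEq.respectTransparency.types false

open TensorProduct

namespace Groth.Agent.DevEtale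

theorem fp_of_fp_restrictScalars (A B M : Type u) [CommRing A] [CommRing B] [Algebra A B] [Module.Finite A B]
    [AddCommGroup M] [Module A M] [Module B M] [IsScalarTower A B M] [Module.FinitePresentation A M] :
    Module.FinitePresentation B M := by
  haveI : Module.Finite B M := Module.Finite.of_restrictScalars_finite A B M
  obtain ⟨n, f, hf⟩ := Module.Finite.exists_fin' B M
  refine Module.finitePresentation_of_surjective f hf ?_
  have h := Module.FinitePresentation.fg_ker (f.restrictScalars A) hf
  rw [LinearMap.ker_restrictScalars] at h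
  haveI : Module.Finite A (LinearMap.ker f) := Module.Finite.iff_fg.2 h
  exact Module.Finite.iff_fg.1 (Module.Finite.of_restrictScalars_finite A B (LinearMap.ker f))

theorem fp_iff_restrictScalars (A B M : Type u) [CommRing A] [CommRing B] [Algebra A B]
    [Module.FinitePresentation A B]
    [AddCommGroup M] [Module A M] [Module B M] [IsScalarTower A B M] :
    Module.FinitePresentation A M ↔ Module.FinitePresentation B M :=
  ⟨fun _ => fp_of_fp_restrictScalars A B M, fun _ => Module.FinitePresentation.trans A M B⟩

theorem fp_of_faithfullyFlat {B B' M M' : Type u} [CommRing B] [CommRing B'] [Algebra B B']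
    [Module.FaithfullyFlat B B'] [AddCommGroup M] [Module B M] [AddCommGroup M'] [Module B' M'] [Module B M']
    [IsScalarTower B B' M'] (f : M →ₗ[B] M') (hf : IsBaseChange B' f) [Module.FinitePresentation B' M'] :
    Module.FinitePresentation B M := by
  haveI hT : Module.FinitePresentation B' (B' ⊗[B] M) := Module.FinitePresentation.of_equiv hf.equiv.symm
  haveI : Module.Finite B M := Module.Finite.of_finite_tensorProduct_of_faithfullyFlat B'
  obtain ⟨n, π, hπ⟩ := Module.Finite.exists_fin' B M
  refine Module.finitePresentation_of_surjective π hπ ?_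
  haveI : Module.Finite B (LinearMap.ker π) := by
    suffices Module.Finite B' (B' ⊗[B] (LinearMap.ker π)) from
      Module.Finite.of_finite_tensorProduct_of_faithfullyFlat B'
    let ι := (LinearMap.ker π).subtype.baseChange B'
    have hex : Function.Exact ι (π.baseChange B') :=
      lTensor_exact B' π.exact_subtype_ker_map hπ
    have hfg := Module.FinitePresentation.fg_ker (π.baseChange B') (LinearMap.lTensor_surjective B' hπ)
    rw [LinearMap.exact_iff.1 hex] at hfg
    have hι : Function.Injective ι :=
      Module.Flat.lTensor_preserves_injective_linearMap (LinearMap.ker π).subtype Subtype.val_injective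
    haveI : Module.Finite B' (LinearMap.range ι) := Module.Finite.iff_fg.2 hfg
    exact Module.Finite.equiv (LinearEquiv.ofInjective ι hι).symm
  exact Module.Finite.iff_fg.1 ‹_›

/-- Comparison of localisations along a ring map. -/
theorem exists_isBaseChange_localized {S S' N N' : Type u} [CommRing S] [CommRing S'] [Algebra S S']
    [AddCommGroup N] [Module S N] [AddCommGroup N'] [Module S' N'] [Module S N'] [IsScalarTower S S' N']
    (f : N →ₗ[S] N') (hf : IsBaseChange S' f) (M : Submonoid S) (M' : Submonoid S')
    (hu : ∀ m ∈ M, IsUnit (algebraMap S (Localization M') m)) :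
    ∃ (_ : Algebra (Localization M) (Localization M')) (_ : IsScalarTower S (Localization M) (Localization M'))
      (_ : Module (Localization M) (LocalizedModule M' N'))
      (_ : IsScalarTower (Localization M) (Localization M') (LocalizedModule M' N'))
      (g : LocalizedModule M N →ₗ[Localization M] LocalizedModule M' N'), IsBaseChange (Localization M') g := by
  let A := Localization M
  let A' := Localization M'
  let L' := LocalizedModule M' N'
  letI : Algebra A A' := (IsLocalization.lift (S := A) (fun m : M => hu m m.2)).toAlgebra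
  haveI : IsScalarTower S A A' := IsScalarTower.of_algebraMap_eq fun s => (IsLocalization.lift_eq _ s).symm
  letI : Module A L' := Module.compHom L' (algebraMap A A')
  haveI : IsScalarTower A A' L' := IsScalarTower.of_algebraMap_smul fun _ _ => rfl
  haveI : IsScalarTower S A' L' := IsScalarTower.to₁₃₄ S S' A' L'
  haveI : IsScalarTower S A L' := IsScalarTower.to₁₂₄ S A A' L'
  let g₀ : N →ₗ[S] L' := ((LocalizedModule.mkLinearMap M' N').restrictScalars S).comp f
  have hu' : ∀ x : M, IsUnit (algebraMap S (Module.End S L') x) := fun x => by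
    rw [Module.End.isUnit_iff]
    obtain ⟨v, hv⟩ := hu x x.2
    refine Function.bijective_iff_has_inverse.2 ⟨fun z => (↑v⁻¹ : A') • z, fun z => ?_, fun z => ?_⟩
    · show (↑v⁻¹ : A') • ((x : S) • z) = z
      rw [← IsScalarTower.algebraMap_smul A' (x : S) z, ← hv, smul_smul, Units.inv_mul, one_smul]
    · show (x : S) • ((↑v⁻¹ : A') • z) = z
      rw [← IsScalarTower.algebraMap_smul A' (x : S), ← hv, smul_smul, Units.mul_inv, one_smul]
  let g₁ : LocalizedModule M N →ₗ[S] L' :=
    IsLocalizedModule.lift M (LocalizedModule.mkLinearMap M N) g₀ hu'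
  refine ⟨inferInstance, inferInstance, inferInstance, inferInstance, g₁.extendScalarsOfIsLocalization M A, ?_⟩
  refine IsBaseChange.of_comp (f := LocalizedModule.mkLinearMap M N)
    ((isLocalizedModule_iff_isBaseChange M A _).1 inferInstance) ?_
  have h2 : IsBaseChange A' (LocalizedModule.mkLinearMap M' N') :=
    (isLocalizedModule_iff_isBaseChange M' A' _).1 inferInstance
  convert hf.comp h2 using 1
  exact LinearMap.ext fun n => IsLocalizedModule.lift_apply M (LocalizedModule.mkLinearMap M N) g₀ hu' n

theorem fp_localized_baseChange {S S' N N' : Type u} [CommRing S] [CommRing S'] [Algebra S S']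
    [AddCommGroup N] [Module S N] [AddCommGroup N'] [Module S' N'] [Module S N'] [IsScalarTower S S' N']
    (f : N →ₗ[S] N') (hf : IsBaseChange S' f) (M : Submonoid S) (M' : Submonoid S')
    (hu : ∀ m ∈ M, IsUnit (algebraMap S (Localization M') m))
    [Module.FinitePresentation (Localization M) (LocalizedModule M N)] :
    Module.FinitePresentation (Localization M') (LocalizedModule M' N') := by
  obtain ⟨_, _, _, _, g, hg⟩ := exists_isBaseChange_localized f hf M M' hu
  exact FinitePresentation.of_isBaseChange g hg

theorem fp_localized_descent {S S' N N' : Type u} [CommRing S] [CommRing S'] [Algebra S S'] [Module.Flat S S']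
    [AddCommGroup N] [Module S N] [AddCommGroup N'] [Module S' N'] [Module S N'] [IsScalarTower S S' N']
    (f : N →ₗ[S] N') (hf : IsBaseChange S' f) (M : Submonoid S) (M' : Submonoid S')
    (hu : ∀ m ∈ M, IsUnit (algebraMap S (Localization M') m))
    (hsurj : ∀ (P : Ideal S) [P.IsPrime], Disjoint (M : Set S) P →
      ∃ P' : Ideal S', P'.IsPrime ∧ P'.LiesOver P ∧ Disjoint (M' : Set S') P')
    [Module.FinitePresentation (Localization M') (LocalizedModule M' N')] :
    Module.FinitePresentation (Localization M) (LocalizedModule M N) := by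
  obtain ⟨_, _, _, _, g, hg⟩ := exists_isBaseChange_localized f hf M M' hu
  haveI : Module.Flat S' (Localization M') := IsLocalization.flat _ M'
  haveI : Module.Flat S (Localization M') := Module.Flat.trans S S' _
  haveI : Module.Flat (Localization M) (Localization M') :=
    (Module.flat_iff_of_isLocalization (Localization M) M (Localization M')).2 inferInstance
  haveI : Module.FaithfullyFlat (Localization M) (Localization M') := by
    refine Module.FaithfullyFlat.of_comap_surjective fun x => ?_
    let P := x.asIdeal.comap (algebraMap S (Localization M))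
    have hP : Disjoint (M : Set S) P :=
      ((IsLocalization.isPrime_iff_isPrime_disjoint M (Localization M) x.asIdeal).1 x.isPrime).2
    obtain ⟨P', hP', hlies, hd⟩ := hsurj P hP
    let Q := P'.map (algebraMap S' (Localization M'))
    haveI : Q.IsPrime := IsLocalization.isPrime_of_isPrime_disjoint M' _ P' hP' hd
    refine ⟨⟨Q, inferInstance⟩, PrimeSpectrum.ext ?_⟩
    show Q.comap (algebraMap (Localization M) (Localization M')) = x.asIdeal
    refine (IsLocalization.map_comap M (Localization M) _).symm.trans
      (Eq.trans ?_ (IsLocalization.map_comap M (Localization M) x.asIdeal))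
    congr 1
    rw [Ideal.under_def, Ideal.comap_comap, ← IsScalarTower.algebraMap_eq, IsScalarTower.algebraMap_eq S S' (Localization M'),
      ← Ideal.comap_comap, show Q.comap (algebraMap S' (Localization M')) = P' from IsLocalization.comap_map_of_isPrime_disjoint M' _ hP' hd]
    exact hlies.over.symm
  exact fp_of_faithfullyFlat g hg

/-- Finite presentation of localisations over the base or over a finite algebra. -/
theorem fp_localized_iff_restrict {D C G : Type u} [CommRing D] [CommRing C] [Algebra D C]
    [Module.FinitePresentation D C]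
    [AddCommGroup G] [Module C G] [Module D G] [IsScalarTower D C G]
    (M : Submonoid D) (Mc : Submonoid C) (hM : ∀ d ∈ M, algebraMap D C d ∈ Mc)
    (hdiv : ∀ c ∈ Mc, ∃ e : C, ∃ d ∈ M, c * e = algebraMap D C d) :
    Module.FinitePresentation (Localization M) (LocalizedModule M G) ↔
      Module.FinitePresentation (Localization Mc) (LocalizedModule Mc G) := by
  let A := Localization M
  let A' := Localization Mc
  let L' := LocalizedModule Mc G
  have hu : ∀ m : M, IsUnit (algebraMap D A' m) := fun m => by
    rw [IsScalarTower.algebraMap_apply D C A']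
    exact IsLocalization.map_units A' ⟨_, hM m m.2⟩
  letI : Algebra A A' := (IsLocalization.lift (S := A) hu).toAlgebra
  haveI : IsScalarTower D A A' := IsScalarTower.of_algebraMap_eq fun s => (IsLocalization.lift_eq _ s).symm
  haveI : IsScalarTower D A' L' := IsScalarTower.to₁₃₄ D C A' L'
  letI : Module A L' := Module.compHom L' (algebraMap A A')
  haveI : IsScalarTower A A' L' := IsScalarTower.of_algebraMap_smul fun _ _ => rfl
  haveI : IsScalarTower D A L' := IsScalarTower.to₁₂₄ D A A' L'
  haveI := isLocalizedModule_restrict M Mc hM hdiv (Algebra.linearMap C A')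
  haveI : Module.FinitePresentation A A' :=
    FinitePresentation.of_isBaseChange ((Algebra.linearMap C A').restrictScalars D)
      ((isLocalizedModule_iff_isBaseChange M A _).1 inferInstance)
  haveI := isLocalizedModule_restrict M Mc hM hdiv (LocalizedModule.mkLinearMap Mc G)
  let e : LocalizedModule M G ≃ₗ[A] L' :=
    (IsLocalizedModule.linearEquiv M (LocalizedModule.mkLinearMap M G)
      ((LocalizedModule.mkLinearMap Mc G).restrictScalars D)).extendScalarsOfIsLocalization M A
  exact e.finitePresentation_iff.trans (fp_iff_restrictScalars A A' L')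

theorem isUnit_powers {S S' : Type u} [CommRing S] [CommRing S'] [Algebra S S'] (a : S) (b : S')
    (h : algebraMap S S' a ∣ b) : ∀ m ∈ Submonoid.powers a, IsUnit (algebraMap S (Localization (Submonoid.powers b)) m) := by
  rintro _ ⟨k, rfl⟩
  rw [map_pow, IsScalarTower.algebraMap_apply S S']
  exact (isUnit_of_dvd_unit ((algebraMap S' (Localization (Submonoid.powers b))).map_dvd h)
    (IsLocalization.map_units _ ⟨b, Submonoid.mem_powers b⟩)).pow k

theorem elemDevissage_fp_iff {R S : Type u} [CommRing R] [CommRing S] [Algebra R S] [Algebra.FinitePresentation R S]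
    (N : Type u) [AddCommGroup N] [Module S N] [Module R N] [IsScalarTower R S N]
    (p : Ideal R) [p.IsPrime] (q : Ideal S) [q.IsPrime] (n : ℕ) (E : FlatCA.ElemDevissage R S N p q n) :
    Algebra.FinitePresentation E.D E.C ∧
    [Module.FinitePresentation (Localization.AtPrime q) (LocalizedModule q.primeCompl N),
     Module.FinitePresentation (Localization.AtPrime E.z) (LocalizedModule E.z.primeCompl E.G),
     Module.FinitePresentation (Localization.AtPrime E.y) (LocalizedModule E.y.primeCompl E.G)].TFAE ∧
    [∃ g : S, g ∉ q ∧ Module.FinitePresentation (Localization.Away g) (LocalizedModule (Submonoid.powers g) N),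
     ∃ g : E.C, g ∉ E.z ∧ Module.FinitePresentation (Localization.Away g) (LocalizedModule (Submonoid.powers g) E.G),
     ∃ g : E.D, g ∉ E.y ∧ Module.FinitePresentation (Localization.Away g) (LocalizedModule (Submonoid.powers g) E.G)].TFAE := by
  classical
  obtain ⟨hetR, -, -⟩ := E.etaleR
  obtain ⟨hetS, hq'q, -⟩ := E.etaleS
  haveI := hq'q
  haveI := E.finiteDC
  haveI := E.fpC
  haveI : Algebra.FinitePresentation R E.S' := Algebra.FinitePresentation.trans R S E.S'
  haveI : Algebra.FinitePresentation E.R' E.S' :=
    Algebra.FinitePresentation.of_restrict_scalars_finitePresentation R E.R' E.S'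
  haveI : Algebra.FinitePresentation E.R' E.C := Algebra.FinitePresentation.trans E.R' E.S' E.C
  haveI : Algebra.FiniteType E.R' E.D := by
    haveI hsm : AlgebraicGeometry.Smooth (AlgebraicGeometry.Spec.map (CommRingCat.ofHom (algebraMap E.R' E.D))) :=
      E.smooth.smooth
    have hft : AlgebraicGeometry.LocallyOfFiniteType
        (AlgebraicGeometry.Spec.map (CommRingCat.ofHom (algebraMap E.R' E.D))) := inferInstance
    exact RingHom.finiteType_algebraMap.1
      ((AlgebraicGeometry.HasRingHomProperty.Spec_iff (P := @AlgebraicGeometry.LocallyOfFiniteType)).1 hft)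
  haveI hDC : Algebra.FinitePresentation E.D E.C :=
    Algebra.FinitePresentation.of_restrict_scalars_finitePresentation E.R' E.D E.C
  haveI : Module.FinitePresentation E.D E.C := Module.FinitePresentation.of_finite_of_finitePresentation _ _
  haveI : Module.Finite E.S' E.C := Module.Finite.of_surjective (Algebra.linearMap E.S' E.C) E.surjC
  haveI : Module.FinitePresentation E.S' E.C := Module.FinitePresentation.of_finite_of_finitePresentation _ _
  haveI : Module.Flat S E.S' := inferInstance
  letI : Module S E.G := Module.compHom E.G (algebraMap S E.S')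
  haveI : IsScalarTower S E.S' E.G := IsScalarTower.of_algebraMap_smul fun _ _ => rfl
  let f : N →ₗ[S] E.G := (E.iso.toLinearMap.restrictScalars S).comp E.f
  have hf : IsBaseChange E.S' f := E.isBaseChange.comp (IsBaseChange.ofEquiv E.iso)
  have hid : IsBaseChange E.C (LinearMap.id : E.G →ₗ[E.C] E.G) := IsBaseChange.ofEquiv (LinearEquiv.refl _ _)
  have hCy : ∀ c ∈ E.z.primeCompl, ∃ e : E.C, ∃ d ∈ E.y.primeCompl, c * e = algebraMap E.D E.C d :=
    fun c hc => exists_dvd_of_unique E.y E.z E.uniq c hc
  have hSz : ∀ c ∈ E.z.primeCompl, ∃ e : E.C, ∃ d ∈ E.q'.primeCompl, c * e = algebraMap E.S' E.C d := by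
    intro c hc
    obtain ⟨d, rfl⟩ := E.surjC c
    exact ⟨1, d, fun h => hc (((Ideal.LiesOver.over (p := E.q') (P := E.z)) ▸ h : d ∈ E.z.under E.S')), mul_one _⟩
  have hpow : ∀ {D' : Type u} [CommRing D'] [Algebra D' E.C] (d : D'),
      (∀ x ∈ Submonoid.powers d, algebraMap D' E.C x ∈ Submonoid.powers (algebraMap D' E.C d)) ∧
      ∀ x ∈ Submonoid.powers (algebraMap D' E.C d), ∃ e : E.C, ∃ y ∈ Submonoid.powers d, x * e = algebraMap D' E.C y := by
    intro D' _ _ d
    refine ⟨?_, ?_⟩
    · rintro _ ⟨k, rfl⟩
      exact ⟨k, (map_pow _ _ _).symm⟩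
    · rintro _ ⟨k, rfl⟩
      exact ⟨1, d ^ k, ⟨k, rfl⟩, by rw [mul_one, map_pow]⟩
  refine ⟨hDC, ?_, ?_⟩
  · tfae_have 1 ↔ 2 := by
      have hu : ∀ m ∈ q.primeCompl, IsUnit (algebraMap S (Localization E.q'.primeCompl) m) := fun m hm => by
        rw [IsScalarTower.algebraMap_apply S E.S']
        exact IsLocalization.map_units _ (⟨_, fun h => hm (hq'q.over ▸ h)⟩ : E.q'.primeCompl)
      refine Iff.trans ⟨fun _ => fp_localized_baseChange f hf q.primeCompl E.q'.primeCompl hu, fun _ => ?_⟩
        (fp_localized_iff_restrict E.q'.primeCompl E.z.primeCompl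
          (fun d hd h => hd ((Ideal.LiesOver.over (p := E.q') (P := E.z)) ▸ h)) hSz)
      refine fp_localized_descent f hf q.primeCompl E.q'.primeCompl hu fun P _ hP => ?_
      have hPq : P ≤ q := fun x hx => not_not.1 fun h => Set.disjoint_left.1 hP h hx
      obtain ⟨P', hle, hP', hlies⟩ := Ideal.exists_ideal_le_liesOver_of_le (S := E.S') (p := P) (q := q) E.q' hPq
      exact ⟨P', hP', hlies, Set.disjoint_left.2 fun x hx hxP => hx (hle hxP)⟩
    tfae_have 2 ↔ 3 := (fp_localized_iff_restrict E.y.primeCompl E.z.primeCompl
      (fun d hd h => hd ((Ideal.LiesOver.over (p := E.y) (P := E.z)) ▸ h)) hCy).symm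
    tfae_finish
  · tfae_have 1 → 2 := by
      rintro ⟨g, hg, _⟩
      let g' := algebraMap S E.S' g
      haveI := fp_localized_baseChange f hf (Submonoid.powers g) (Submonoid.powers g') (isUnit_powers g g' dvd_rfl)
      refine ⟨algebraMap E.S' E.C g', ?_, (fp_localized_iff_restrict (Submonoid.powers g') _ (hpow g').1 (hpow g').2).1 ‹_›⟩
      intro h
      refine hg ?_
      rw [hq'q.over]
      show g' ∈ E.q'
      rw [Ideal.LiesOver.over (p := E.q') (P := E.z)]
      exact h
    tfae_have 2 → 3 := by
      rintro ⟨c, hc, _⟩
      obtain ⟨e, d, hd, he⟩ := hCy c hc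
      haveI := fp_localized_baseChange (LinearMap.id : E.G →ₗ[E.C] E.G) hid (Submonoid.powers c)
        (Submonoid.powers (algebraMap E.D E.C d)) (isUnit_powers c _ (by rw [← he]; exact Dvd.intro e rfl))
      exact ⟨d, hd, (fp_localized_iff_restrict (Submonoid.powers d) _ (hpow d).1 (hpow d).2).2 ‹_›⟩
    tfae_have 3 → 1 := by
      rintro ⟨d, hd, hfp⟩
      have hC := (fp_localized_iff_restrict (Submonoid.powers d) _ (hpow d).1 (hpow d).2).1 hfp
      obtain ⟨h, hh⟩ := E.surjC (algebraMap E.D E.C d)
      rw [← hh] at hC
      have hhq : h ∉ E.q' := by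
        intro hm
        rw [Ideal.LiesOver.over (p := E.q') (P := E.z)] at hm
        refine hd ?_
        rw [Ideal.LiesOver.over (p := E.y) (P := E.z)]
        show algebraMap E.D E.C d ∈ E.z
        rw [← hh]
        exact hm
      obtain ⟨g, hg, hP⟩ := exists_basicOpen_le_image q E.q' h hhq
      haveI := (fp_localized_iff_restrict (Submonoid.powers h) _ (hpow h).1 (hpow h).2).2 hC
      let g' := algebraMap S E.S' g * h
      have hidS : IsBaseChange E.S' (LinearMap.id : E.G →ₗ[E.S'] E.G) := IsBaseChange.ofEquiv (LinearEquiv.refl _ _)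
      haveI := fp_localized_baseChange (LinearMap.id : E.G →ₗ[E.S'] E.G) hidS (Submonoid.powers h)
        (Submonoid.powers g') (isUnit_powers h g' (dvd_mul_left _ _))
      refine ⟨g, hg, fp_localized_descent f hf (Submonoid.powers g) (Submonoid.powers g')
        (isUnit_powers g g' (dvd_mul_right _ _)) fun P hPp hdisj => ?_⟩
      have hgP : g ∉ P := fun hm => Set.disjoint_left.1 hdisj (Submonoid.mem_powers g) hm
      obtain ⟨P', hP', hlies, hhP⟩ := hP P hgP
      refine ⟨P', hP', hlies, (Ideal.disjoint_powers_iff_notMem g' hP'.isRadical).2 ?_⟩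
      intro hm
      rcases hP'.mem_or_mem hm with h1 | h1
      · exact hgP (hlies.over ▸ h1)
      · exact hhP h1
    tfae_finish

end Groth.Agent.DevEtale
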