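import Groth.Agent.DevEtale.Ring
import Groth.Prelude.Def_FlatCA
import Mathlib.RingTheory.Flat.Localization
import Mathlib.RingTheory.Flat.FaithfullyFlat.Basic
import Mathlib.RingTheory.RingHom.Flat

/-! Flatness at a prime is unchanged by flat base change of the ring upstairs. -/

universe u

set_option autoImplicit false
set_option backward.isDefEq.respectTransparency false
set_option backward.isDefEq.respectTransparency.types false

open TensorProduct

namespace Groth.Agent.DevEtale

theorem flatAt_iff_of_flat (R : Type u) {S S' N N' : Type u} [CommRing R] [CommRing S] [CommRing S']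
    [Algebra R S] [Algebra S S'] [Algebra R S'] [IsScalarTower R S S'] [Module.Flat S S']
    [AddCommGroup N] [Module S N] [Module R N] [IsScalarTower R S N]
    [AddCommGroup N'] [Module S' N'] [Module S N'] [IsScalarTower S S' N'] [Module R N'] [IsScalarTower R S' N']
    (f : N →ₗ[S] N') (hf : IsBaseChange S' f) (q : Ideal S) [q.IsPrime] (q' : Ideal S') [q'.IsPrime]
    [q'.LiesOver q] : FlatCA.FlatAt R q N ↔ FlatCA.FlatAt R q' N' := by
  let A := Localization.AtPrime q
  let A' := Localization.AtPrime q'
  let L := LocalizedModule q.primeCompl N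
  let L' := LocalizedModule q'.primeCompl N'
  have hq : q = q'.comap (algebraMap S S') := Ideal.LiesOver.over
  let φ : A →+* A' := Localization.localRingHom q q' (algebraMap S S') hq
  letI : Algebra A A' := φ.toAlgebra
  haveI : IsScalarTower S A A' := IsScalarTower.of_algebraMap_eq fun s => by
    rw [RingHom.algebraMap_toAlgebra, Localization.localRingHom_to_map,
      IsScalarTower.algebraMap_apply S S' A']
  haveI : IsScalarTower R A A' := IsScalarTower.of_algebraMap_eq fun r => by
    rw [IsScalarTower.algebraMap_apply R S A, ← IsScalarTower.algebraMap_apply S A A',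
      ← IsScalarTower.algebraMap_apply R S A']
  haveI : IsLocalHom (algebraMap A A') := Localization.isLocalHom_localRingHom q q' _ hq
  haveI : Module.Flat A A' :=
    RingHom.flat_algebraMap_iff.1
      (RingHom.Flat.localRingHom (RingHom.flat_algebraMap_iff.2 inferInstance) q' q hq)
  haveI : Module.FaithfullyFlat A A' := Module.FaithfullyFlat.of_flat_of_isLocalHom
  letI : Module A L' := Module.compHom L' (algebraMap A A')
  haveI : IsScalarTower A A' L' := IsScalarTower.of_algebraMap_smul fun _ _ => rfl
  haveI : IsScalarTower S A' L' := IsScalarTower.to₁₃₄ S S' A' L'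
  haveI : IsScalarTower S A L' := IsScalarTower.to₁₂₄ S A A' L'
  haveI : IsScalarTower R A' L' := IsScalarTower.to₁₃₄ R S' A' L'
  haveI : IsScalarTower R A L' := IsScalarTower.to₁₂₄ R A A' L'
  haveI : IsScalarTower R A L := IsScalarTower.to₁₃₄ R S A L
  let g₀ : N →ₗ[S] L' := ((LocalizedModule.mkLinearMap q'.primeCompl N').restrictScalars S).comp f
  have hu : ∀ x : q.primeCompl, IsUnit (algebraMap S (Module.End S L') x) := fun x => by
    have hx : algebraMap S S' (x : S) ∈ q'.primeCompl := fun h => x.2 (hq ▸ h)
    have := IsLocalizedModule.map_units (LocalizedModule.mkLinearMap q'.primeCompl N') ⟨_, hx⟩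
    rw [Module.End.isUnit_iff] at this ⊢
    convert this using 1
    funext z
    exact (IsScalarTower.algebraMap_smul S' (x : S) z).symm
  let g₁ : L →ₗ[S] L' := IsLocalizedModule.lift q.primeCompl (LocalizedModule.mkLinearMap q.primeCompl N) g₀ hu
  let g : L →ₗ[A] L' := g₁.extendScalarsOfIsLocalization q.primeCompl A
  have hbc : IsBaseChange A' g := by
    refine IsBaseChange.of_comp (f := LocalizedModule.mkLinearMap q.primeCompl N)
      ((isLocalizedModule_iff_isBaseChange q.primeCompl A _).1 inferInstance) ?_
    have h2 : IsBaseChange A' (LocalizedModule.mkLinearMap q'.primeCompl N') :=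
      (isLocalizedModule_iff_isBaseChange q'.primeCompl A' _).1 inferInstance
    convert hf.comp h2 using 1
    refine LinearMap.ext fun n => ?_
    exact IsLocalizedModule.lift_apply q.primeCompl (LocalizedModule.mkLinearMap q.primeCompl N) g₀ hu n
  exact flat_iff_of_isBaseChange g hbc

end Groth.Agent.DevEtale
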