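import Groth.Agent.DevEtale.Local
import Mathlib.RingTheory.Ideal.GoingUp
import Mathlib.RingTheory.Flat.Localization
import Mathlib.RingTheory.Spectrum.Prime.Chevalley
import Mathlib.RingTheory.Etale.Basic
import Mathlib.RingTheory.Unramified.Finite
import Mathlib.RingTheory.Smooth.Flat

/-! Flat loci of modules under changes of ring. -/

universe u

set_option autoImplicit false
set_option backward.isDefEq.respectTransparency false
set_option backward.isDefEq.respectTransparency.types false

namespace Groth.Agent.DevEtale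

/-- A localisation over an algebra is a localisation over the base, when every element inverted upstairs
divides one coming from downstairs. -/
theorem isLocalizedModule_restrict {D C G L : Type u} [CommRing D] [CommRing C] [Algebra D C]
    [AddCommGroup G] [Module C G] [Module D G] [IsScalarTower D C G]
    [AddCommGroup L] [Module C L] [Module D L] [IsScalarTower D C L]
    (M : Submonoid D) (Mc : Submonoid C) (hM : ∀ d ∈ M, algebraMap D C d ∈ Mc)
    (hdiv : ∀ c ∈ Mc, ∃ e : C, ∃ d ∈ M, c * e = algebraMap D C d)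
    (f : G →ₗ[C] L) [IsLocalizedModule Mc f] : IsLocalizedModule M (f.restrictScalars D) where
  map_units x := by
    have := IsLocalizedModule.map_units f ⟨_, hM x x.2⟩
    rw [Module.End.isUnit_iff] at this ⊢
    convert this using 1
    funext z
    exact (IsScalarTower.algebraMap_smul C (x : D) z).symm
  surj y := by
    obtain ⟨⟨m, c⟩, h⟩ := IsLocalizedModule.surj Mc f y
    obtain ⟨e, d, hd, he⟩ := hdiv c c.2
    refine ⟨(e • m, ⟨d, hd⟩), ?_⟩
    show d • y = f (e • m)
    rw [map_smul, ← h, ← IsScalarTower.algebraMap_smul C d y, ← he, mul_comm, mul_smul]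
    rfl
  exists_of_eq {x₁ x₂} h := by
    obtain ⟨c, hc⟩ := IsLocalizedModule.exists_of_eq (S := Mc) (f := f) h
    obtain ⟨e, d, hd, he⟩ := hdiv c c.2
    refine ⟨⟨d, hd⟩, ?_⟩
    have := congrArg (fun z => e • z) hc
    simp only [Submonoid.smul_def, smul_smul, mul_comm e, he, IsScalarTower.algebraMap_smul] at this
    exact this

theorem flat_localized_iff_restrict (R : Type u) {D C G : Type u} [CommRing R] [CommRing D] [CommRing C]
    [Algebra R D] [Algebra D C] [Algebra R C] [IsScalarTower R D C]
    [AddCommGroup G] [Module C G] [Module D G] [IsScalarTower D C G] [Module R G]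
    [IsScalarTower R C G] [IsScalarTower R D G]
    (M : Submonoid D) (Mc : Submonoid C) (hM : ∀ d ∈ M, algebraMap D C d ∈ Mc)
    (hdiv : ∀ c ∈ Mc, ∃ e : C, ∃ d ∈ M, c * e = algebraMap D C d) :
    Module.Flat R (LocalizedModule M G) ↔ Module.Flat R (LocalizedModule Mc G) := by
  haveI : IsScalarTower R D (LocalizedModule Mc G) := IsScalarTower.to₁₂₄ R D C _
  haveI := isLocalizedModule_restrict M Mc hM hdiv (LocalizedModule.mkLinearMap Mc G)
  exact Module.Flat.equiv_iff ((IsLocalizedModule.linearEquiv M (LocalizedModule.mkLinearMap M G)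
    ((LocalizedModule.mkLinearMap Mc G).restrictScalars D)).restrictScalars R)

/-- Flatness on a basic open is flatness at all its points. -/
theorem flat_away_iff (R : Type u) {S N : Type u} [CommRing R] [CommRing S] [Algebra R S]
    [AddCommGroup N] [Module S N] [Module R N] [IsScalarTower R S N] (g : S) :
    Module.Flat R (LocalizedModule (Submonoid.powers g) N) ↔
      ∀ (P : Ideal S) [P.IsPrime], g ∉ P → FlatCA.FlatAt R P N := by
  let T := Localization.Away g
  let M := LocalizedModule (Submonoid.powers g) N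
  haveI : IsScalarTower R T M := IsScalarTower.to₁₃₄ R S T M
  haveI : Module.Flat S T := IsLocalization.flat T (Submonoid.powers g)
  have hbc : IsBaseChange T (LocalizedModule.mkLinearMap (Submonoid.powers g) N) :=
    (isLocalizedModule_iff_isBaseChange (Submonoid.powers g) T _).1 inferInstance
  constructor
  · intro hfl P hP hg
    have hdisj : Disjoint (Submonoid.powers g : Set S) P :=
      (Ideal.disjoint_powers_iff_notMem g hP.isRadical).2 hg
    let Q : Ideal T := P.map (algebraMap S T)
    haveI : Q.IsPrime := IsLocalization.isPrime_of_isPrime_disjoint _ T P hP hdisj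
    haveI : Q.LiesOver P := ⟨(IsLocalization.comap_map_of_isPrime_disjoint _ T hP hdisj).symm⟩
    rw [flatAt_iff_of_flat R (LocalizedModule.mkLinearMap (Submonoid.powers g) N) hbc P Q]
    haveI : IsScalarTower R (Localization.AtPrime Q) (LocalizedModule Q.primeCompl M) :=
      IsScalarTower.to₁₃₄ R T (Localization.AtPrime Q) _
    haveI : Module.Flat T (Localization.AtPrime Q) := IsLocalization.flat _ Q.primeCompl
    exact flat_of_isBaseChange (B := T) (B' := Localization.AtPrime Q)
      (LocalizedModule.mkLinearMap Q.primeCompl M)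
      ((isLocalizedModule_iff_isBaseChange Q.primeCompl _ _).1 inferInstance)
  · intro H
    refine Module.flat_of_isLocalized_maximal T M (fun Q _ => LocalizedModule Q.primeCompl M)
      (fun Q _ => LocalizedModule.mkLinearMap Q.primeCompl M) (fun Q _ => ?_)
    let P := Q.comap (algebraMap S T)
    haveI : Q.LiesOver P := ⟨rfl⟩
    have hg : g ∉ P := fun h => (inferInstance : Q.IsPrime).ne_top
      (Ideal.eq_top_of_isUnit_mem Q h (IsLocalization.Away.algebraMap_isUnit (S := T) g))
    exact (flatAt_iff_of_flat R (LocalizedModule.mkLinearMap (Submonoid.powers g) N) hbc P Q).1 (H P hg)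

theorem exists_dvd_of_unique {D C : Type u} [CommRing D] [CommRing C] [Algebra D C] [Algebra.IsIntegral D C]
    (y : Ideal D) [y.IsPrime] (z : Ideal C) [z.IsPrime]
    (huniq : ∀ (z₁ : Ideal C) [z₁.IsPrime], z₁.LiesOver y → z₁ = z) (c : C) (hc : c ∉ z) :
    ∃ e : C, ∃ d ∈ y.primeCompl, c * e = algebraMap D C d := by
  by_cases h : (Ideal.span {c}).comap (algebraMap D C) ≤ y
  · obtain ⟨P, hle, hP, hPy⟩ := Ideal.exists_ideal_over_prime_of_isIntegral y (Ideal.span {c}) h
    have := huniq P ⟨hPy.symm⟩
    exact (hc (this ▸ hle (Ideal.mem_span_singleton_self c))).elim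
  · obtain ⟨d, hd, hdy⟩ := SetLike.not_le_iff_exists.1 h
    obtain ⟨e, he⟩ := Ideal.mem_span_singleton'.1 hd
    exact ⟨e, d, hdy, by rw [mul_comm]; exact he⟩

/-- An open neighbourhood downstairs from one upstairs, along an étale algebra. -/
theorem exists_basicOpen_le_image {S S' : Type u} [CommRing S] [CommRing S'] [Algebra S S'] [Algebra.Etale S S']
    (q : Ideal S) [q.IsPrime] (q' : Ideal S') [q'.IsPrime] [q'.LiesOver q] (h : S') (hh : h ∉ q') :
    ∃ g : S, g ∉ q ∧ ∀ (P : Ideal S) [P.IsPrime], g ∉ P → ∃ P' : Ideal S', P'.IsPrime ∧ P'.LiesOver P ∧ h ∉ P' := by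
  have hopen : IsOpen (PrimeSpectrum.comap (algebraMap S S') '' (PrimeSpectrum.basicOpen h : Set (PrimeSpectrum S'))) :=
    (PrimeSpectrum.isOpenMap_comap_of_hasGoingDown_of_finitePresentation) _ (PrimeSpectrum.basicOpen h).isOpen
  have hq : (⟨q, inferInstance⟩ : PrimeSpectrum S) ∈
      PrimeSpectrum.comap (algebraMap S S') '' (PrimeSpectrum.basicOpen h : Set (PrimeSpectrum S')) :=
    ⟨⟨q', inferInstance⟩, hh, PrimeSpectrum.ext (Ideal.LiesOver.over (p := q) (P := q')).symm⟩
  obtain ⟨_, ⟨g, rfl⟩, hgq, hsub⟩ :=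
    PrimeSpectrum.isTopologicalBasis_basic_opens.exists_subset_of_mem_open hq hopen
  refine ⟨g, hgq, fun P hP hg => ?_⟩
  obtain ⟨P', hP', e⟩ := hsub (show (⟨P, hP⟩ : PrimeSpectrum S) ∈ PrimeSpectrum.basicOpen g from hg)
  exact ⟨P'.asIdeal, P'.isPrime, ⟨(congrArg PrimeSpectrum.asIdeal e).symm⟩, hP'⟩

theorem flat_iff_of_etale_base (R R' M : Type u) [CommRing R] [CommRing R'] [Algebra R R'] [Algebra.Etale R R']
    [AddCommGroup M] [Module R M] [Module R' M] [IsScalarTower R R' M] :
    Module.Flat R M ↔ Module.Flat R' M :=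
  ⟨fun _ => Algebra.FormallyUnramified.flat_of_restrictScalars R R' M, fun _ => Module.Flat.trans R R' M⟩

end Groth.Agent.DevEtale
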