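import Groth.Agent.DevEtale.Loci

/-! Flatness along an elementary dévissage. -/

universe u

set_option autoImplicit false
set_option backward.isDefEq.respectTransparency false
set_option backward.isDefEq.respectTransparency.types false

namespace Groth.Agent.DevEtale

theorem elemDevissage_flat_iff {R S : Type u} [CommRing R] [CommRing S] [Algebra R S]
    (N : Type u) [AddCommGroup N] [Module S N] [Module R N] [IsScalarTower R S N]
    (p : Ideal R) [p.IsPrime] (q : Ideal S) [q.IsPrime] (n : ℕ) (E : FlatCA.ElemDevissage R S N p q n) :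
    [FlatCA.FlatAt R q N, FlatCA.FlatAt E.R' E.z E.G, FlatCA.FlatAt E.R' E.y E.G].TFAE ∧
    [∃ g : S, g ∉ q ∧ Module.Flat R (LocalizedModule (Submonoid.powers g) N),
     ∃ g : E.C, g ∉ E.z ∧ Module.Flat E.R' (LocalizedModule (Submonoid.powers g) E.G),
     ∃ g : E.D, g ∉ E.y ∧ Module.Flat E.R' (LocalizedModule (Submonoid.powers g) E.G)].TFAE := by
  classical
  obtain ⟨hetR, -, -⟩ := E.etaleR
  obtain ⟨hetS, hq'q, -⟩ := E.etaleS
  haveI := E.finiteDC
  letI : Module S E.G := Module.compHom E.G (algebraMap S E.S')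
  haveI : IsScalarTower S E.S' E.G := IsScalarTower.of_algebraMap_smul fun _ _ => rfl
  letI : Module R E.G := Module.compHom E.G (algebraMap R E.S')
  haveI : IsScalarTower R E.S' E.G := IsScalarTower.of_algebraMap_smul fun _ _ => rfl
  haveI : IsScalarTower E.R' E.S' E.G := IsScalarTower.to₁₂₄ E.R' E.S' E.C E.G
  haveI : IsScalarTower R E.R' E.G := IsScalarTower.to₁₂₄ R E.R' E.S' E.G
  haveI : Module.Flat S E.S' := inferInstance
  let f : N →ₗ[S] E.G := (E.iso.toLinearMap.restrictScalars S).comp E.f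
  have hf : IsBaseChange E.S' f := E.isBaseChange.comp (IsBaseChange.ofEquiv E.iso)
  -- N at a point versus G at a point of C above it
  have hsurj : ∀ (P' : Ideal E.S') [P'.IsPrime] (w : Ideal E.C) [w.IsPrime], w.LiesOver P' →
      ∀ c ∈ w.primeCompl, ∃ e : E.C, ∃ d ∈ P'.primeCompl, c * e = algebraMap E.S' E.C d := by
    intro P' _ w _ hw c hc
    obtain ⟨d, rfl⟩ := E.surjC c
    exact ⟨1, d, fun h => hc ((hw.over ▸ h : d ∈ w.under E.S')), mul_one _⟩
  have hpoint : ∀ (P : Ideal S) [P.IsPrime] (P' : Ideal E.S') [P'.IsPrime] (w : Ideal E.C) [w.IsPrime],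
      P'.LiesOver P → w.LiesOver P' → (FlatCA.FlatAt R P N ↔ FlatCA.FlatAt E.R' w E.G) := by
    intro P _ P' _ w _ _ hw
    rw [flatAt_iff_of_flat R f hf P P']
    refine (flat_iff_of_etale_base R E.R' _).trans ?_
    exact flat_localized_iff_restrict E.R' P'.primeCompl w.primeCompl
      (fun d hd h => hd (hw.over ▸ h)) (hsurj P' w hw)
  have hzero : ∀ (P' : Ideal E.S') [P'.IsPrime], (∀ (w : Ideal E.C) [w.IsPrime], ¬ w.LiesOver P') →
      Subsingleton (LocalizedModule P'.primeCompl E.G) := by
    intro P' hP' h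
    obtain ⟨j, hj, hjP⟩ : ∃ j, algebraMap E.S' E.C j = 0 ∧ j ∉ P' := by
      by_contra hne
      push Not at hne
      let w := P'.map (algebraMap E.S' E.C)
      haveI : w.IsPrime := Ideal.map_isPrime_of_surjective E.surjC (fun j hj => hne j hj)
      refine h w ⟨?_⟩
      refine (Eq.symm ?_)
      show Ideal.comap _ (Ideal.map _ P') = P'
      rw [Ideal.comap_map_of_surjective _ E.surjC, sup_eq_left]
      exact fun j hj => hne j (Ideal.mem_bot.1 hj)
    refine LocalizedModule.subsingleton_iff.2 fun m => ⟨j, hjP, ?_⟩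
    rw [← IsScalarTower.algebraMap_smul E.C j m, hj, zero_smul]
  have hCy : ∀ c ∈ E.z.primeCompl, ∃ e : E.C, ∃ d ∈ E.y.primeCompl, c * e = algebraMap E.D E.C d :=
    fun c hc => exists_dvd_of_unique E.y E.z E.uniq c hc
  have hyz : FlatCA.FlatAt E.R' E.y E.G ↔ FlatCA.FlatAt E.R' E.z E.G :=
    flat_localized_iff_restrict E.R' E.y.primeCompl E.z.primeCompl
      (fun d hd h => hd ((Ideal.LiesOver.over (p := E.y) (P := E.z)) ▸ h)) hCy
  refine ⟨?_, ?_⟩
  · tfae_have 1 ↔ 2 := hpoint q E.q' E.z hq'q inferInstance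
    tfae_have 2 ↔ 3 := hyz.symm
    tfae_finish
  · tfae_have 1 → 2 := by
      rintro ⟨g, hg, hfl⟩
      refine ⟨algebraMap E.S' E.C (algebraMap S E.S' g), ?_, ?_⟩
      · intro h
        refine hg ?_
        rw [hq'q.over]
        show algebraMap S E.S' g ∈ E.q'
        rw [Ideal.LiesOver.over (p := E.q') (P := E.z)]
        exact h
      · refine (flat_away_iff E.R' _).2 fun w _ hw => ?_
        let P' := w.comap (algebraMap E.S' E.C)
        let P := P'.comap (algebraMap S E.S')
        exact (hpoint P P' w ⟨rfl⟩ ⟨rfl⟩).1 ((flat_away_iff R g).1 hfl P hw)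
    tfae_have 2 → 3 := by
      rintro ⟨c, hc, hfl⟩
      obtain ⟨e, d, hd, he⟩ := hCy c hc
      refine ⟨d, hd, ?_⟩
      have h1 : Module.Flat E.R' (LocalizedModule (Submonoid.powers (algebraMap E.D E.C d)) E.G) := by
        refine (flat_away_iff E.R' _).2 fun w _ hw => (flat_away_iff E.R' c).1 hfl w fun h => hw ?_
        rw [← he]
        exact w.mul_mem_right e h
      refine (flat_localized_iff_restrict E.R' (Submonoid.powers d) (Submonoid.powers (algebraMap E.D E.C d))
        ?_ ?_).2 h1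
      · rintro _ ⟨k, rfl⟩
        exact ⟨k, (map_pow _ _ _).symm⟩
      · rintro _ ⟨k, rfl⟩
        exact ⟨1, d ^ k, ⟨k, rfl⟩, by rw [mul_one, map_pow]⟩
    tfae_have 3 → 1 := by
      rintro ⟨d, hd, hfl⟩
      have hC : Module.Flat E.R' (LocalizedModule (Submonoid.powers (algebraMap E.D E.C d)) E.G) := by
        refine (flat_localized_iff_restrict E.R' (Submonoid.powers d) (Submonoid.powers (algebraMap E.D E.C d))
          ?_ ?_).1 hfl
        · rintro _ ⟨k, rfl⟩
          exact ⟨k, (map_pow _ _ _).symm⟩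
        · rintro _ ⟨k, rfl⟩
          exact ⟨1, d ^ k, ⟨k, rfl⟩, by rw [mul_one, map_pow]⟩
      obtain ⟨h, hh⟩ := E.surjC (algebraMap E.D E.C d)
      have hhq : h ∉ E.q' := by
        intro hm
        rw [Ideal.LiesOver.over (p := E.q') (P := E.z)] at hm
        refine hd ?_
        rw [Ideal.LiesOver.over (p := E.y) (P := E.z)]
        show algebraMap E.D E.C d ∈ E.z
        rw [← hh]
        exact hm
      haveI := hq'q
      obtain ⟨g, hg, hP⟩ := exists_basicOpen_le_image q E.q' h hhq
      refine ⟨g, hg, (flat_away_iff R g).2 fun P _ hgP => ?_⟩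
      obtain ⟨P', hP', hlies, hhP⟩ := hP P hgP
      by_cases hw : ∃ (w : Ideal E.C) (_ : w.IsPrime), w.LiesOver P'
      · obtain ⟨w, _, hw⟩ := hw
        refine (hpoint P P' w hlies hw).2 ((flat_away_iff E.R' _).1 hC w fun hm => hhP ?_)
        rw [hw.over]
        show algebraMap E.S' E.C h ∈ w
        rw [hh]
        exact hm
      · push Not at hw
        rw [flatAt_iff_of_flat R f hf P P']
        haveI := hzero P' hw
        show Module.Flat R (LocalizedModule P'.primeCompl E.G)
        infer_instance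
    tfae_finish

end Groth.Agent.DevEtale
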