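import Groth.Agent.DescLib.Flat
import Mathlib.RingTheory.IsTensorProduct
import Mathlib.RingTheory.Localization.BaseChange
import Mathlib.RingTheory.LocalRing.ResidueField.Ideal

/-! Flatness over a base under faithfully flat base change upstairs. -/

universe u

open TensorProduct

namespace Groth.Agent.DevEtale

theorem flat_of_isBaseChange {A B B' M M' : Type u} [CommRing A] [CommRing B] [CommRing B'] [Algebra A B]
    [Algebra B B'] [Algebra A B'] [IsScalarTower A B B'] [Module.Flat B B'] [AddCommGroup M] [Module B M] [Module A M] [IsScalarTower A B M]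
    [AddCommGroup M'] [Module B' M'] [Module B M'] [IsScalarTower B B' M'] [Module A M'] [IsScalarTower A B M']
    (f : M →ₗ[B] M') (hf : IsBaseChange B' f) [Module.Flat A M] : Module.Flat A M' := by
  let e : (B' ⊗[B] M) ≃ₗ[A] M' := (hf.equiv.restrictScalars B).restrictScalars A
  suffices Module.Flat A (B' ⊗[B] M) from Module.Flat.of_linearEquiv e.symm
  rw [Module.Flat.iff_lTensor_preserves_injective_linearMap]
  intro N N' _ _ _ _ g hg
  let u : (M ⊗[A] N) →ₗ[B] (M ⊗[A] N') := AlgebraTensorModule.lTensor B M g
  have hu : Function.Injective u := Module.Flat.lTensor_preserves_injective_linearMap g hg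
  have hu' : Function.Injective (u.lTensor B') := Module.Flat.lTensor_preserves_injective_linearMap u hu
  have hcomm : ∀ z : (B' ⊗[B] M) ⊗[A] N, AlgebraTensorModule.assoc A B B B' M N' (g.lTensor (B' ⊗[B] M) z) =
      u.lTensor B' (AlgebraTensorModule.assoc A B B B' M N z) := by
    intro z
    induction z with
    | zero => simp
    | tmul x n =>
      induction x with
      | zero => simp
      | tmul b m => simp [u]
      | add x y hx hy => simp only [add_tmul, map_add, hx, hy]
    | add x y hx hy => simp only [map_add, hx, hy]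
  intro x y h
  apply (AlgebraTensorModule.assoc A B B B' M N).injective
  apply hu'
  rw [← hcomm, ← hcomm, h]

theorem flat_of_isBaseChange_faithfullyFlat {A B B' M M' : Type u} [CommRing A] [CommRing B] [CommRing B']
    [Algebra A B] [Algebra B B'] [Algebra A B'] [IsScalarTower A B B'] [Module.FaithfullyFlat B B'] [AddCommGroup M] [Module B M] [Module A M]
    [IsScalarTower A B M] [AddCommGroup M'] [Module B' M'] [Module B M'] [IsScalarTower B B' M'] [Module A M']
    [IsScalarTower A B M'] (f : M →ₗ[B] M') (hf : IsBaseChange B' f) [Module.Flat A M'] : Module.Flat A M := by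
  refine DescLib.flat_of_universallyInjective (f.restrictScalars A) fun N _ _ => ?_
  rw [LinearMap.lTensor_inj_iff_rTensor_inj]
  let u : (M ⊗[A] N) →ₗ[B] M' ⊗[A] N := AlgebraTensorModule.rTensor A N f
  let e : B' ⊗[B] (M ⊗[A] N) ≃ₗ[B] M' ⊗[A] N :=
    ((AlgebraTensorModule.assoc A B B B' M N).symm).trans
      (AlgebraTensorModule.congr (hf.equiv.restrictScalars B) (LinearEquiv.refl A N))
  have hu : ∀ z, u z = e ((1 : B') ⊗ₜ[B] z) := by
    intro z
    induction z with
    | zero => simp
    | tmul m n => simp [u, e, IsBaseChange.equiv_tmul]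
    | add x y hx hy => simp only [tmul_add, map_add, hx, hy]
  intro x y h
  apply Module.FaithfullyFlat.tensorProduct_mk_injective (A := B) (B := B') (M ⊗[A] N)
  apply e.injective
  show e (1 ⊗ₜ x) = e (1 ⊗ₜ y)
  rw [← hu, ← hu]
  exact h

theorem flat_iff_of_isBaseChange {A B B' M M' : Type u} [CommRing A] [CommRing B] [CommRing B']
    [Algebra A B] [Algebra B B'] [Algebra A B'] [IsScalarTower A B B'] [Module.FaithfullyFlat B B'] [AddCommGroup M] [Module B M] [Module A M]
    [IsScalarTower A B M] [AddCommGroup M'] [Module B' M'] [Module B M'] [IsScalarTower B B' M'] [Module A M']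
    [IsScalarTower A B M'] (f : M →ₗ[B] M') (hf : IsBaseChange B' f) :
    Module.Flat A M ↔ Module.Flat A M' :=
  ⟨fun _ => flat_of_isBaseChange f hf, fun _ => flat_of_isBaseChange_faithfullyFlat f hf⟩

end Groth.Agent.DevEtale
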